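import Cfsg.Agent.Anc.A
import Cfsg.Agent.Odc.Defs

/-! Anticentral elements: the minimal counterexample and the interfaces -/

set_option autoImplicit false

namespace CF.Anc
open Subgroup CF.BG CF.Odc
open scoped commutatorElement Pointwise

universe u v

variable {Γ : Type u} [Group Γ]

/-- the minimal counterexample with an invariant Sylow `2`-subgroup -/
structure MC (G A T : Subgroup Γ) : Prop where
  fp : Fp G A
  ns : ¬ Sol G
  simple : ∀ N, N ⊴ G → N = ⊥ ∨ N = G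
  sol : ∀ H, H ≤ G → H ≠ G → A ≤ 𝐍 H → Sol H
  syl : Syl 2 T G
  inv : A ≤ 𝐍 T
  ne : T ≠ ⊥

/-- strong closure in every minimal counterexample -/
def HS : Prop := ∀ {Γ : Type u} [Group Γ] [Finite Γ] {G A T : Subgroup Γ}, MC G A T → SCl G T

/-- solvability in the ambient form -/
def Amb : Prop := ∀ {Γ : Type u} [Group Γ] [Finite Γ] {G A : Subgroup Γ}, Fp G A → Sol G

variable {G A T H : Subgroup Γ} [Finite Γ]

namespace MC
variable (h : MC G A T)
include h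

theorem pT : IsPGroup 2 T := h.syl.pi.isPGroup

theorem Z_ne : ZZ T ≠ ⊥ := Loc.omegaOneCenter_ne_bot h.pT h.ne

theorem W_ne : WW G T ≠ ⊥ := ne_bot_mono h.Z_ne (Z_le_W G T)

omit [Finite Γ] in
theorem T_le_M : T ≤ MM G T := (le_inf h.syl.le (le_norm_self T)).trans (normT_le_M G T)

omit [Finite Γ] in
theorem normW : A ≤ 𝐍 (WW G T) := norm_le_normW h.fp.norm h.inv

omit [Finite Γ] in
theorem normM : A ≤ 𝐍 (MM G T) := norm_inf h.fp.norm (h.normW.trans (norm_le_norm_norm _))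

/-- the normalizer of a nontrivial `2`-subgroup is proper -/
theorem norm_ne {Y : Subgroup Γ} (hY : Y ≤ G) (k : PiGrp {2} Y) (h1 : Y ≠ ⊥) : G ⊓ 𝐍 Y ≠ G :=
  fun e => (h.simple Y ⟨hY, e.ge.trans inf_le_right⟩).elim h1 fun e' => h.ns (e' ▸ k.sol)

theorem M_ne : MM G T ≠ G :=
  h.norm_ne ((W_le G T).trans h.syl.le) (W_abelem G T).pi h.W_ne

theorem M_sol : Sol (MM G T) := h.sol _ (M_le G T) h.M_ne h.normM

omit [Finite Γ] in
theorem fpM : Fp (MM G T) A := h.fp.mono (M_le G T) h.normM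

theorem sylM : Syl 2 T (MM G T) := h.syl.of_le h.T_le_M (M_le G T)

/-- `W` is `2`-reduced for `M` -/
theorem red {D : Subgroup Γ} (hD : D ⊴ MM G T) (k : PiNat {2} ((𝐂 (WW G T)).relIndex D)) :
    D ≤ 𝐂 (WW G T) := by
  have s : Syl 2 (T ⊓ D) D := h.sylM.inf_normal hD
  have n : D ≤ 𝐍 (𝐂 (WW G T)) := norm_cent (hD.le.trans (M_norm G T))
  have e : D ≤ (D ⊓ 𝐂 (WW G T)) ⊔ (T ⊓ D) := by
    have h1 : (D ⊓ 𝐂 (WW G T)) ⊔ (T ⊓ D) ≤ D := sup_le inf_le_left inf_le_right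
    have a : PiNat {2}ᶜ (((D ⊓ 𝐂 (WW G T)) ⊔ (T ⊓ D)).relIndex D) := s.idx_of_le le_sup_right
    have b : PiNat {2} (((D ⊓ 𝐂 (WW G T)) ⊔ (T ⊓ D)).relIndex D) := by
      refine k.dvd ?_
      rw [← inf_relIndex_right (𝐂 (WW G T)) D, inf_comm]
      exact relIndex_dvd_left D le_sup_left
    exact relIndex_eq_one.mp (b.eq_one a)
  have c : ZZ T ≤ 𝐂 D := by
    refine cent_symm (e.trans (sup_le (inf_le_right.trans (cent_anti (Z_le_W G T))) ?_))
    exact inf_le_left.trans (Loc.le_centralizer_omegaOneCenter 2 T)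
  rw [W_eq]
  exact cent_symm (Loc.ncl_le_centralizer c hD.norm)

end MC

end CF.Anc
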