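import Cfsg.Agent.Anc.S
import Cfsg.Agent.Odc.D4
import Cfsg.Agent.Odc.H2
import Cfsg.Agent.Odc.N4
import Cfsg.Agent.Odc.P1
import Cfsg.Agent.Odc.P3

/-! Factorization of invariant solvable subgroups, part 1: index calculus and the minimal counterexample -/

set_option autoImplicit false

namespace CF.Anc
open Subgroup CF.BG CF.Odc
open scoped commutatorElement Pointwise

universe u
variable {Γ : Type u} [Group Γ] [Finite Γ] {A B D E H K L N P Q R T U V W X Y : Subgroup Γ}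
  {a b c g t x y : Γ}

/-- the hypotheses of the factorization theorem -/
structure Cx (H A T W : Subgroup Γ) : Prop where
  fp : Fp H A
  sol : Sol H
  syl : Syl 2 T H
  aT : A ≤ 𝐍 T
  cq : H ⊓ 𝐂 (𝐎 {2} H) ≤ 𝐎 {2} H
  wT : W ≤ T
  ab : Abelem 2 W
  tW : T ≤ 𝐍 W
  aW : A ≤ 𝐍 W
  jW : JJ T ≤ 𝐂 W
  nJ : H ⊓ 𝐍 (JJ T) ≤ 𝐍 W
  wh : Wh T W A

theorem Cx.mono (h : Cx H A T W) (l : T ≤ K) (k : K ≤ H) (n : A ≤ 𝐍 K) : Cx K A T W := by
  have q : 𝐎 {2} H ≤ 𝐎 {2} K := O_le_O_of_le k (h.syl.O_le.trans l)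
  exact { h with
    fp := h.fp.mono k n, sol := h.sol.mono k, syl := h.syl.of_le l k
    cq := ((inf_le_inf k (cent_anti q)).trans h.cq).trans q
    nJ := (inf_le_inf_right _ k).trans h.nJ }

/-- a minimal counterexample -/
structure Cy (H A T W : Subgroup Γ) : Prop extends Cx H A T W where
  ne : ¬ H ≤ 𝐍 W
  ih : ∀ K, T ≤ K → K ≤ H → K ≠ H → A ≤ 𝐍 K → K ≤ 𝐍 W

namespace Cy
variable (h : Cy H A T W)
include h

omit [Finite Γ] in
theorem wn : Wn T W := ⟨h.wh.nf, h.wh.f1⟩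

theorem QT : 𝐎 {2} H ≤ T := h.syl.O_le

theorem aQ : A ≤ 𝐍 (𝐎 {2} H) := le_norm_O _ h.fp.norm

omit [Finite Γ] in
theorem dich (n : N ⊴ H) (a : A ≤ 𝐍 N) : N ⊔ T = H ∨ N ≤ 𝐍 W := by
  by_contra k
  rw [not_or] at k
  exact k.2 (le_sup_left.trans (h.ih _ le_sup_right (sup_le n.le h.syl.le) k.1 (norm_sup a h.aT)))

theorem dich' (n : N ⊴ H) (a : A ≤ 𝐍 N) (l : N ≤ 𝐍 W) : T ⊓ N ≤ 𝐎 {2} H := by
  have f := (h.syl.inf_normal n).syl_frattini_sup n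
  by_cases e : H ⊓ 𝐍 (T ⊓ N) = H
  · exact le_O ⟨inf_le_left.trans h.syl.le, e.ge.trans inf_le_right⟩ h.syl.pi.inf_left
  · refine (h.ne (f.ge.trans (sup_le l (h.ih _ ?_ inf_le_left e ?_)))).elim
    · exact le_inf h.syl.le (norm_inf (le_norm_self T) (h.syl.le.trans n.norm))
    · exact norm_inf h.fp.norm ((norm_inf h.aT a).trans (norm_le_norm_norm _))

theorem exNP : ∃ N P, N ⊴ H ∧ P ⊴ H ∧ 𝐎 {2} H ≤ N ∧ N ≤ P ∧ T ⊓ P ≤ 𝐎 {2} H ∧ P ⊓ 𝐍 W ≤ N ∧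
    T ⊓ centMod P N ≤ 𝐎 {2} H := by
  obtain ⟨N, -, ⟨n1, n2, n3⟩, mx⟩ := exists_maximal
    (P := fun X => X ⊴ H ∧ A ≤ 𝐍 X ∧ X ≤ 𝐍 W) (H := ⊥) ⟨.bot H, by simp, bot_le⟩
  have mx' : ∀ X, X ⊴ H → A ≤ 𝐍 X → X ≤ 𝐍 W → X ≤ N := fun X a b c =>
    le_sup_right.trans (mx (N ⊔ X) ⟨n1.sup a, norm_sup n2 b, sup_le n3 c⟩ le_sup_left).le
  obtain ⟨P, hP, c⟩ := exists_chief_above (L := H ⊔ A) ⟨n1.le.trans le_sup_left, sup_le n1.norm n2⟩
    (normalIn_sup_left h.fp.norm) (lt_of_le_of_ne n1.le fun e => h.ne (e ▸ n3))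
  obtain ⟨p, hp, ab⟩ := c.minN.exists_abelem ((h.sol.mono hP).qt N)
  have p1 : P ⊴ H := c.normal.of_le hP le_sup_left
  have p2 : A ≤ 𝐍 P := le_sup_right.trans c.normal.norm
  have nP : P ≤ 𝐍 N := hP.trans n1.norm
  have p3 : ¬ P ≤ 𝐍 W := fun k => c.lt.not_ge (mx' P p1 p2 k)
  have e : P ⊔ T = H := (h.dich p1 p2).resolve_right p3
  have ix : PiNat {p} (N.relIndex P) := (piGrp_qt_iff nP).1 ab.pi
  have p4 : p ≠ 2 := by
    rintro rfl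
    have a := (h.syl.inf_normal p1).idx_of_le (K := N ⊔ (T ⊓ P)) le_sup_right
    exact p3 ((relIndex_eq_one.1 ((ix.dvd (relIndex_dvd_left P le_sup_left)).eq_one a)).trans
      (sup_le n3 (inf_le_left.trans h.tW)))
  have q := h.dich' n1 n2 n3
  have nS : T ≤ 𝐍 (T ⊓ centMod P N) := norm_inf (le_norm_self T)
    (norm_centMod (h.syl.le.trans p1.norm) (h.syl.le.trans n1.norm))
  refine ⟨N, P, n1, p1, mx' _ (O_normal _ _) h.aQ (h.QT.trans h.tW), c.lt.le, ?_, ?_, ?_⟩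
  · exact (le_inf inf_le_left (h.syl.pi.inf_left.le_of_relIndex inf_le_right nP
      (ix.to_compl_single (by simpa using p4.symm)))).trans q
  · refine mx' _ ⟨inf_le_left.trans hP, e.ge.trans (sup_le ?_ ?_)⟩ ?_ inf_le_right
    · exact norm_of_der_le inf_le_left (((abel_qt_iff nP).1 ab.abel).trans (le_inf c.lt.le n3))
    · exact norm_inf (h.syl.le.trans p1.norm) (norm_of_le h.tW)
    · exact norm_inf p2 (h.aW.trans (norm_le_norm_norm _))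
  · refine (le_inf inf_le_left (le_sup_right.trans (mx' (N ⊔ (T ⊓ centMod P N))
      ⟨sup_le n1.le (inf_le_left.trans h.syl.le), e.ge.trans (sup_le ?_ ?_)⟩ ?_ ?_))).trans q
    · refine norm_of_comm_le ((comm_sup_le (comm_le_left nP) ?_ (le_norm_self N) ?_).trans le_sup_left)
      · exact (commutator_mono inf_le_right le_rfl).trans (comm_centMod_le P N)
      · exact inf_le_right.trans (centMod_le_norm _ _)
    · exact norm_sup (h.syl.le.trans n1.norm) nS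
    · exact norm_sup n2 (norm_inf h.aT (norm_centMod p2 n2))
    · exact sup_le n3 (inf_le_left.trans h.tW)

theorem exLy (q : 𝐎 {2} H ≤ E) (l : E ≤ T) (e : Abelem 2 (qt (𝐎 {2} H) E)) (ht : t ∈ E)
    (nt : t ∉ 𝐎 {2} H) (tt : t * t = 1) : ∃ E0 y, Ly H W E E0 t y := by
  obtain ⟨N, P, n, p, qN, nP, tP, pW, cP⟩ := h.exNP
  set Q := 𝐎 {2} H with hQ
  have hN : H ≤ 𝐍 Q := (O_normal _ _).norm
  have eH : E ≤ H := l.trans h.syl.le
  have tN : t ∈ 𝐍 N := n.norm (eH ht)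
  have tQ : t ∈ 𝐍 Q := hN (eH ht)
  have s : Syl 2 Q P := by
    have := h.syl.inf_normal p
    rwa [le_antisymm tP (le_inf h.QT (qN.trans nP))] at this
  obtain ⟨m, hm⟩ := Nat.exists_eq_succ_of_ne_zero (e.pi.logn_pos.2 fun k =>
    nt ((qt_eq_bot (eH.trans hN)).1 k ht)).ne'
  have el := e.elem le_rfl
  rw [hm] at el
  have ql : Q ≤ qp N (𝐂₁ (qe N t)) := qN.trans (le_qp _)
  by_contra k
  have := el.le_of_cent (K := qt Q P) (L := qt Q (qp N (𝐂₁ (qe N t)))) (qt_norm Q (eH.trans p.norm))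
    ((piGrp_qt_iff (p.le.trans hN)).2 s.idx) fun B hB z hz => ?_
  · rw [qt_le_qt_iff' (p.le.trans hN) ql] at this
    refine nt (cP ⟨l ht, mem_centMod.2 ⟨tN, fun u hu => ?_⟩⟩)
    rw [← commutatorElement_inv]
    exact inv_mem ((mem_qc tN).1 (this hu)).2
  obtain ⟨c, cP', cQ, rfl⟩ := mem_qt.1 hz.1
  refine qe_mem_qt ((mem_qc tN).2 ⟨n.norm (p.le cP'), ?_⟩) cQ
  by_contra u
  have uP : ⁅c, t⁆ ∈ P := by
    have := mul_mem cP' (p.conj_mem (eH ht) (inv_mem cP'))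
    simpa only [commutatorElement_def, mul_assoc] using this
  have cX : c ∈ qp Q (𝐂 B) := mem_qp.2 ⟨cQ, hz.2⟩
  have tX : t ∈ qp Q (𝐂 B) := mem_qp.2 ⟨tQ, e.abel.cent le_rfl hB.le (qe_mem_qt ht tQ)⟩
  have uX : ⁅c, t⁆ ∈ qp Q (𝐂 B) := mul_mem (mul_mem (mul_mem cX tX) (inv_mem cX)) (inv_mem tX)
  have yX := mem_qp.1 (constt_mem_of_mem {2}ᶜ uX)
  have yP := constt_mem_of_mem {2}ᶜ uP
  refine k ⟨qp Q B, constt {2}ᶜ ⁅c, t⁆, le_qp _, qp_le_of_le_qt ⟨q, eH.trans hN⟩ hB.le, ?_,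
    fun z => u (qN ?_), p.le yP, pi_odd (constt_pi _ _), ?_, fun x hx => ?_, fun z => u ?_⟩
  · rw [relIndex_qp_left _ (eH.trans hN), Elem.relIndex (n := 1) el hB, pow_one]
  · exact ((mem_qc tQ).1 (mem_qp.2 ⟨cQ, cent_le_cent1 (mem_qp.1 z).2 hz.2⟩)).2
  · obtain ⟨j, hj⟩ := mem_zpowers_iff.1 (constt_mem {2}ᶜ ⁅c, t⁆)
    have t1 : t⁻¹ = t := inv_eq_of_mul_eq_one_right tt
    have : t * ⁅c, t⁆ * t⁻¹ = ⁅c, t⁆⁻¹ := by
      rw [commutatorElement_inv, commutatorElement_def, commutatorElement_def, t1]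
      calc _ = t * c * t * c⁻¹ * (t * t) := by group
        _ = _ := by rw [tt, mul_one]
    rw [← hj, ← conj_zpow, this, inv_zpow]
  · have := mem_qp.1 hx
    exact ((mem_qc this.1).1 (mem_qp.2 ⟨yX.1, cent_le_cent1 this.2 yX.2⟩)).2
  · rw [← constt_mul_constt {2} ⁅c, t⁆]
    exact mul_mem (qN (s.mem_normal (p.le.trans hN) (constt_mem_of_mem _ uP) (constt_pi _ _)))
      (pW ⟨yP, z⟩)

end Cy

end CF.Anc
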